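import Groth.Prelude.Def_Omega3
import Mathlib

/-!
# Existence of universal derivations

The sheafification of the presheaf of Kähler differentials relative to the functions coming from the base
carries a universal derivation, for every morphism of schemes.
-/

set_option autoImplicit false
set_option backward.isDefEq.respectTransparency false
set_option backward.isDefEq.respectTransparency.types false
set_option linter.style.haveILetI false
set_option maxHeartbeats 1000000

universe u

open CategoryTheory CategoryTheory.Limits AlgebraicGeometry TopologicalSpace Opposite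

noncomputable section

namespace Groth.Agent.H1Omega

variable {X Y : Scheme.{u}} (f : X ⟶ Y)

/-- The functions on `U` generated by those coming from the base. -/
def baseSub (U : X.Opens) : Subring Γ(X, U) :=
  Subring.closure {r | ∃ (V : Y.Opens) (e : U ≤ f ⁻¹ᵁ V) (c : Γ(Y, V)), f.appLE V U e c = r}

theorem map_mem_baseSub {U U' : X.Opens} (i : U' ⟶ U) {r : Γ(X, U)} (hr : r ∈ baseSub f U) :
    X.presheaf.map i.op r ∈ baseSub f U' := by
  suffices h : baseSub f U ≤ (baseSub f U').comap (X.presheaf.map i.op).hom from h hr
  refine Subring.closure_le.2 ?_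
  rintro _ ⟨V, e, c, rfl⟩
  refine Subring.subset_closure ⟨V, i.le.trans e, c, ?_⟩
  rw [← Scheme.Hom.appLE_map f e i.op]
  rfl

/-- The presheaf of functions coming from the base. -/
def basePre : (Opens X)ᵒᵖ ⥤ CommRingCat.{u} where
  obj U := CommRingCat.of (baseSub f U.unop)
  map {U U'} i := CommRingCat.ofHom
    ((((X.presheaf.map i).hom.comp (baseSub f U.unop).subtype)).codRestrict (baseSub f U'.unop) fun r =>
      map_mem_baseSub f i.unop r.2)
  map_id U := by
    ext r
    exact congr($(X.presheaf.map_id U).hom r.1)
  map_comp i j := by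
    ext r
    exact congr($(X.presheaf.map_comp i j).hom r.1)

/-- The inclusion. -/
def baseIncl : basePre f ⟶ X.presheaf where
  app U := CommRingCat.ofHom (baseSub f U.unop).subtype
  naturality _ _ _ := rfl

variable {f}

/-- A derivation over the base vanishes on the functions coming from it. -/
theorem d_baseSub {F : X.Modules} (D : OmegaSh.Der f F) (U : X.Opens) {r : Γ(X, U)} (hr : r ∈ baseSub f U) :
    D.app U r = 0 := by
  induction hr using Subring.closure_induction with
  | mem r hr =>
    obtain ⟨V, e, c, rfl⟩ := hr
    refine (D.d_map (homOfLE e).op (f.app V c)).trans ?_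
    exact (congrArg _ (D.d_app c)).trans (map_zero _)
  | zero => exact map_zero _
  | one => exact D.d_one (op U)
  | add a b _ _ ha hb => rw [map_add, ha, hb, add_zero]
  | neg a _ ha => rw [map_neg, ha, neg_zero]
  | mul a b _ _ ha hb =>
    refine (D.d_mul (X := op U) a b).trans ?_
    show a • D.app U b + b • D.app U a = 0
    rw [ha, hb, smul_zero, smul_zero, add_zero]

/-- Every morphism of schemes has a universal derivation. -/
theorem exists_isUniversal (f : X ⟶ Y) : ∃ (Ω : X.Modules) (d : OmegaSh.Der f Ω), OmegaSh.IsUniversal d := by
  let φ' := baseIncl f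
  let M := PresheafOfModules.DifferentialsConstruction.relativeDifferentials' φ'
  let δ := PresheafOfModules.DifferentialsConstruction.derivation' φ'
  let hδ := PresheafOfModules.DifferentialsConstruction.isUniversal' φ'
  let adj := PresheafOfModules.sheafificationAdjunction (𝟙 X.ringCatSheaf.obj)
  let Ω : X.Modules := (PresheafOfModules.sheafification (𝟙 X.ringCatSheaf.obj)).obj M
  let η : M ⟶ Ω.val := adj.unit.app M
  let d : OmegaSh.Der f Ω :=
    { d := fun {U} => (δ.postcomp η).d
      d_mul := (δ.postcomp η).d_mul
      d_map := fun {U U'} i x => (δ.postcomp η).d_map i x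
      d_app := fun {V} c => by
        show (δ.postcomp η).d (f.app V.unop c) = 0
        have hmem : f.app V.unop c ∈ baseSub f (f ⁻¹ᵁ V.unop) :=
          Subring.subset_closure ⟨V.unop, le_rfl, c, by rw [← Scheme.Hom.app_eq_appLE]⟩
        exact PresheafOfModules.Derivation'.d_app (δ.postcomp η) (X := op (f ⁻¹ᵁ V.unop)) ⟨_, hmem⟩ }
  refine ⟨Ω, d, fun F D => ?_⟩
  let D' : F.val.Derivation' φ' :=
    { d := fun {U} => D.d
      d_mul := D.d_mul
      d_map := fun {U U'} i x => D.d_map i x
      d_app := fun {U} r => d_baseSub D U.unop r.2 }
  let α : Ω ⟶ F := (adj.homEquiv M F).symm (hδ.desc D')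
  have hα : η ≫ α.val = hδ.desc D' := ((adj.homEquiv_unit _ _ α).symm.trans ((adj.homEquiv M F).apply_symm_apply _) :)
  refine ⟨α, ?_, fun β hβ => ?_⟩
  · refine PresheafOfModules.Derivation.ext ?_
    funext U
    refine AddMonoidHom.ext fun x => ?_
    have h := PresheafOfModules.Derivation.congr_d (hδ.fac D') (X := U) x
    rw [← hα] at h
    exact h
  · refine (adj.homEquiv M F).injective (hδ.postcomp_injective _ _ ?_)
    rw [(adj.homEquiv M F).apply_symm_apply, hδ.fac]
    refine PresheafOfModules.Derivation.ext ?_
    funext U
    refine AddMonoidHom.ext fun x => ?_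
    exact PresheafOfModules.Derivation.congr_d hβ (X := U) x

end Groth.Agent.H1Omega
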